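import Cfsg.Agent.Lib.C4.ThreeFour.Star

/-!
# `A ⊗ B`, `dim A = 3`, `dim B = 4`: every element of the overgroup is a tensor element

The projection of `End V` onto `End A ⊗ 1` is averaged over the cosets of the tensor part in `M`. The
non-trivial cosets fall into regular orbits of the elements `yv`, whose sum over an orbit vanishes on
`End V`; so an idempotent power of the average has the same image, which is therefore `M`-invariant.

* `piE`, `sum_ad_yv`
* `isTen_of_mem_ovg`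
-/

set_option autoImplicit false
set_option linter.unusedSectionVars false
set_option linter.unusedSimpArgs false

namespace Cfsg.Agent.TenForm.ThreeFour

open Module
open Cfsg.Agent.TenForm TT

variable {ι : Type} [Fintype ι] [DecidableEq ι] {F : Type*} [Field F] [Fintype F]
variable {C : TT ι F 3 4} {K M : Subgroup ((ι → F) ≃ₗ[F] (ι → F))}
variable {b c w₁ w₂ : Fin 4 → F}

/-! ### conjugation of operators of `V` -/

/-- `Z ↦ m Z m⁻¹`. -/
noncomputable def ad (m : (ι → F) ≃ₗ[F] (ι → F)) : Module.End F (Module.End F (ι → F)) :=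
  m.conj.toLinearMap

theorem ad_apply (m : (ι → F) ≃ₗ[F] (ι → F)) (Z : Module.End F (ι → F)) (x : ι → F) :
    ad m Z x = m (Z (m.symm x)) := rfl

theorem ad_mul (m m' : (ι → F) ≃ₗ[F] (ι → F)) : ad (m * m') = ad m * ad m' :=
  LinearMap.ext fun Z => LinearMap.ext fun x => rfl

theorem ad_one : ad (1 : (ι → F) ≃ₗ[F] (ι → F)) = 1 :=
  LinearMap.ext fun Z => LinearMap.ext fun x => rfl

theorem ad_pow (m : (ι → F) ≃ₗ[F] (ι → F)) (n : ℕ) : ad (m ^ n) = ad m ^ n := by
  induction n with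
  | zero => rw [pow_zero, pow_zero, ad_one]
  | succ n ih => rw [pow_succ, pow_succ, ad_mul, ih]

theorem ad_inv_apply (m : (ι → F) ≃ₗ[F] (ι → F)) (Z : Module.End F (ι → F)) :
    ad m⁻¹ (ad m Z) = Z ∧ ad m (ad m⁻¹ Z) = Z := by
  constructor <;> rw [← Module.End.mul_apply, ← ad_mul] <;> simp [ad_one]

/-! ### the projection -/

/-- A quarter of the partial trace. -/
noncomputable def nz (C : TT ι F 3 4) :
    Module.End F (ι → F) →ₗ[F] ((Fin 3 → F) →ₗ[F] (Fin 3 → F)) where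
  toFun Z := (4 : F)⁻¹ • ∑ i, (C.prB (C.dB i)).comp (Z.comp (C.t.flip (Pi.single i 1)))
  map_add' Z Z' := LinearMap.ext fun a => by simp [Finset.sum_add_distrib]
  map_smul' r Z := LinearMap.ext fun a => by simp [Finset.smul_sum, smul_smul, mul_comm]

/-- The projection onto `End A ⊗ 1`. -/
noncomputable def piE (C : TT ι F 3 4) : Module.End F (Module.End F (ι → F)) where
  toFun Z := C.tm (nz C Z) LinearMap.id
  map_add' Z Z' := by rw [map_add, C.tm_add]
  map_smul' r Z := by rw [map_smul, C.tm_smul, RingHom.id_apply]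

theorem piE_apply (Z : Module.End F (ι → F)) : piE C Z = C.tm (nz C Z) LinearMap.id := rfl

theorem four_ne (C : TT ι F 3 4) : (4 : F) ≠ 0 := by
  rw [show (4 : F) = 2 * 2 by norm_num]; exact mul_ne_zero C.two C.two

theorem f_nz (Z : Module.End F (ι → F)) (a a' : Fin 3 → F) :
    C.f (nz C Z a) a' = (4 : F)⁻¹ * LinearMap.trace F _ ((C.prA a').comp (Z.comp (C.t a))) := by
  rw [LinearMap.trace_eq_matrix_trace F (Pi.basisFun F (Fin 4))]
  show C.f (((4 : F)⁻¹ • ∑ i, (C.prB (C.dB i)).comp (Z.comp (C.t.flip (Pi.single i 1)))) a) a' = _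
  simp [Matrix.trace, LinearMap.toMatrix_apply, C.f_prB, ← C.g_prA, C.g_dB]

theorem nz_tm (N : (Fin 3 → F) →ₗ[F] (Fin 3 → F)) : nz C (C.tm N LinearMap.id) = N :=
  LinearMap.ext fun a => C.f_ext fun a' => by
    rw [f_nz, show (C.prA a').comp ((C.tm N LinearMap.id).comp (C.t a)) = C.f (N a) a' • LinearMap.id from
      LinearMap.ext fun y => by simp [C.tm_t, C.prA_t]]
    rw [map_smul, LinearMap.trace_id, Module.finrank_fin_fun, smul_eq_mul]
    have := four_ne C
    push_cast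
    field_simp

theorem piE_tm (N : (Fin 3 → F) →ₗ[F] (Fin 3 → F)) :
    piE C (C.tm N LinearMap.id) = C.tm N LinearMap.id := by rw [piE_apply, nz_tm]

theorem piE_piE (Z : Module.End F (ι → F)) : piE C (piE C Z) = piE C Z := piE_tm _

theorem ad_te_tm (σ : (Fin 3 → F) ≃ₗ[F] (Fin 3 → F)) (τ : (Fin 4 → F) ≃ₗ[F] (Fin 4 → F))
    (N : (Fin 3 → F) →ₗ[F] (Fin 3 → F)) (L : (Fin 4 → F) →ₗ[F] (Fin 4 → F)) :
    ad (C.te σ τ) (C.tm N L) = C.tm (cjA σ N) (cjA τ L) := by
  rw [← cj_te_tm]; rfl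

theorem exists_mult (hO : Ovg C K M) {σ : (Fin 3 → F) ≃ₗ[F] (Fin 3 → F)}
    {τ : (Fin 4 → F) ≃ₗ[F] (Fin 4 → F)} (hi : C.Iso (C.te σ τ)) :
    ∃ ν : F, ∀ a a', C.f (σ a) (σ a') = ν * C.f a a' := by
  obtain ⟨y, hy'⟩ := exists_aniso (C := C.swap) hO.h2 (by norm_num)
  have hy : C.g y y ≠ 0 := hy'
  obtain ⟨a₀, ha₀⟩ := exists_aniso (C := C) hO.h1 le_rfl
  have he : ∀ a a', C.f (σ a) (σ a') * C.g (τ y) (τ y) = C.f a a' * C.g y y := fun a a' => by
    rw [← C.pol, ← C.te_t, ← C.te_t, hi, C.pol]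
  refine ⟨C.g y y / C.g (τ y) (τ y), fun a a' => ?_⟩
  have hθ : C.g (τ y) (τ y) ≠ 0 := fun e => by
    have := he a₀ a₀
    rw [e, mul_zero] at this
    exact mul_ne_zero ha₀ hy this.symm
  field_simp
  linear_combination he a a'

theorem piE_te (hO : Ovg C K M) {σ : (Fin 3 → F) ≃ₗ[F] (Fin 3 → F)}
    {τ : (Fin 4 → F) ≃ₗ[F] (Fin 4 → F)} (hi : C.Iso (C.te σ τ)) (Z : Module.End F (ι → F)) :
    piE C (ad (C.te σ τ) Z) = ad (C.te σ τ) (piE C Z) := by
  obtain ⟨ν, hν⟩ := exists_mult hO hi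
  have hpr : ∀ a' x, C.prA a' (C.te σ τ x) = ν • τ (C.prA (σ.symm a') x) := fun a' x =>
    LinearMap.congr_fun (C.ext_pure (L := (C.prA a').comp (C.te σ τ).toLinearMap)
      (L' := ν • τ.toLinearMap.comp (C.prA (σ.symm a'))) fun a z => by
        have e := hν a (σ.symm a')
        rw [LinearEquiv.apply_symm_apply] at e
        simp [C.te_t, C.prA_t, e, smul_smul]) x
  rw [piE_apply, piE_apply, ad_te_tm, show cjA τ (LinearMap.id : (Fin 4 → F) →ₗ[F] (Fin 4 → F)) =
    LinearMap.id from cjA_id (n₁ := 4) τ]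
  congr 1
  refine LinearMap.ext fun a => C.f_ext fun a' => ?_
  obtain ⟨a₁, rfl⟩ := σ.surjective a'
  rw [cjA_apply, hν, f_nz, f_nz, show (C.prA (σ a₁)).comp ((ad (C.te σ τ) Z).comp (C.t a)) =
    ν • τ.conj ((C.prA a₁).comp (Z.comp (C.t (σ.symm a)))) from LinearMap.ext fun y => by
      show C.prA (σ a₁) (C.te σ τ (Z ((C.te σ τ).symm (C.t a y)))) = _
      rw [hpr, te_symm, C.te_t, LinearEquiv.symm_apply_apply]; rfl]
  rw [map_smul, LinearMap.trace_conj', smul_eq_mul]
  ring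

theorem piE_of_commute (hO : Ovg C K M) {Z : Module.End F (ι → F)}
    (h : ∀ τ : (Fin 4 → F) ≃ₗ[F] (Fin 4 → F), IsPairRefl C.swap τ →
      ad (C.te (LinearEquiv.refl F _) τ) Z = Z) : piE C Z = Z := by
  have hsc : ∀ a a', ∃ r : F, (C.prA a').comp (Z.comp (C.t a)) = r • LinearMap.id := fun a a' => by
    refine pairRefl_commutant (C := C.swap) hO.h2 (by norm_num) (.inl le_rfl) _ fun τ hτ y => ?_
    show C.prA a' (Z (C.t a (τ y))) = τ (C.prA a' (Z (C.t a y)))
    have e : Z (C.te (LinearEquiv.refl F _) τ (C.t a y)) =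
        C.te (LinearEquiv.refl F _) τ (Z (C.t a y)) := by
      nth_rewrite 1 [← h τ hτ]
      rw [ad_apply, LinearEquiv.symm_apply_apply]
    rw [C.te_t, LinearEquiv.refl_apply] at e
    rw [e, te_apply, ← tm_swap, show (LinearEquiv.refl F (Fin 3 → F)).toLinearMap = LinearMap.id from rfl]
    exact C.swap.prB_tm _ a' _
  refine C.ext_pure fun a z => C.p_ext fun a' y => ?_
  obtain ⟨r, hr⟩ := hsc a a'
  have hz := LinearMap.congr_fun hr z
  rw [LinearMap.comp_apply, LinearMap.comp_apply, LinearMap.smul_apply, LinearMap.id_apply] at hz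
  rw [piE_apply, C.tm_t, C.pol, LinearMap.id_apply, ← C.g_prA a' (Z (C.t a z)) y, hz, f_nz, hr, map_smul,
    map_smul, LinearMap.trace_id, Module.finrank_fin_fun, LinearMap.smul_apply, smul_eq_mul, smul_eq_mul]
  have := four_ne C
  push_cast
  field_simp

/-! ### sums over the elements `yv` -/

/-- `x ↦ (v, x) b - (b, x) v`. -/
noncomputable def dv (C : TT ι F 3 4) (b v : Fin 4 → F) : Module.End F (ι → F) :=
  (C.t.flip b).comp (C.prB v) - (C.t.flip v).comp (C.prB b)

/-- `x ↦ -g (v, v) (b, x) b`. -/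
noncomputable def sv (C : TT ι F 3 4) (b v : Fin 4 → F) : Module.End F (ι → F) :=
  -(C.g v v) • (C.t.flip b).comp (C.prB b)

theorem yv_eq (h2 : C.s₂ = 1) (hb : C.g b b = 0) {w : Fin 4 → F} (s : F)
    (hs : C.g b (s • w) = 0) : (yv C hb hs).toLinearMap =
      1 + s • dv C b w + (s * s / 2) • sv C b w := by
  refine LinearMap.ext fun x => ?_
  rw [LinearEquiv.coe_coe, yv_apply h2]
  have h2' := C.two
  simp [dv, sv, map_smul, smul_smul]
  match_scalars <;> field_simp

theorem yv_inv (h2 : C.s₂ = 1) (hb : C.g b b = 0) {v : Fin 4 → F} (hv : C.g b v = 0)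
    (hv' : C.g b (-v) = 0) : (yv C hb hv)⁻¹ = yv C hb hv' := by
  refine inv_eq_of_mul_eq_one_right ?_
  have h0 : C.g b (v + -v) = 0 := by rw [add_neg_cancel, map_zero]
  rw [yv_add h2 hb hv hv' h0]
  exact LinearEquiv.ext fun x => by simp [yv_apply h2]

theorem sum_ad_line (hO : Ovg C K M) (hb : C.g b b = 0) {w : Fin 4 → F}
    (hw : ∀ s : F, C.g b (s • w) = 0) (Z : Module.End F (ι → F)) :
    ∑ s : F, ad (yv C hb (hw s)) Z =
      (∑ s : F, s ^ 4) • ((4 : F)⁻¹ • (sv C b w * Z * sv C b w)) := by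
  set D := dv C b w
  set S := sv C b w
  have h2' := C.two
  have h4 := four_ne C
  have hexp : ∀ s : F, ad (yv C hb (hw s)) Z = Z + s • (D * Z - Z * D) +
      s ^ 2 • ((2 : F)⁻¹ • (S * Z) - D * Z * D + (2 : F)⁻¹ • (Z * S)) +
      s ^ 3 • ((2 : F)⁻¹ • (D * Z * S) - (2 : F)⁻¹ • (S * Z * D)) +
      s ^ 4 • ((4 : F)⁻¹ • (S * Z * S)) := fun s => by
    have hneg : C.g b (-(s • w)) = 0 := by rw [map_neg, hw, neg_zero]
    have hs' : C.g b ((-s) • w) = 0 := hw (-s)
    rw [show ad (yv C hb (hw s)) Z = (yv C hb (hw s)).toLinearMap * Z * (yv C hb hs').toLinearMap from ?_,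
      yv_eq hO.h2, yv_eq hO.h2]
    · simp only [add_mul, mul_add, smul_mul_assoc, mul_smul_comm, one_mul, mul_one, smul_smul, neg_smul,
        mul_neg, neg_mul, smul_add, smul_sub, smul_neg, mul_assoc, add_assoc]
      match_scalars <;> field_simp <;> ring
    · refine LinearMap.ext fun x => ?_
      rw [ad_apply, show (yv C hb (hw s)).symm = (yv C hb (hw s))⁻¹ from rfl,
        yv_inv hO.h2 hb (hw s) hneg]
      simp only [neg_smul]
      rfl
  have hq := hO.card
  have h0 : ∀ k, k < 4 → ∑ s : F, s ^ k = 0 := fun k hk =>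
    FiniteField.sum_pow_lt_card_sub_one F k (by omega)
  have h1 : ∑ s : F, s = 0 := by simpa using h0 1 (by norm_num)
  simp only [hexp, Finset.sum_add_distrib, ← Finset.sum_smul, h1, h0 2 (by norm_num),
    h0 3 (by norm_num), zero_smul, add_zero, Finset.sum_const, Finset.card_univ]
  rw [← Nat.cast_smul_eq_nsmul F, FiniteField.cast_card_eq_zero, zero_smul, zero_add]

theorem hst {b c w₁ w₂ : Fin 4 → F} (Fr : Frame C b c w₁ w₂) (st : F × F) :
    C.g b (st.1 • w₁ + st.2 • w₂) = 0 := by simp [Fr.b₁, Fr.b₂]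

/-- The elements `yv` of the anisotropic plane. -/
noncomputable def yp (Fr : Frame C b c w₁ w₂) (st : F × F) : (ι → F) ≃ₗ[F] (ι → F) :=
  yv C Fr.bb (hst Fr st)

theorem yp_mem (hO : Ovg C K M) (Fr : Frame C b c w₁ w₂) (st : F × F) : yp Fr st ∈ M :=
  yv_mem hO Fr.bb _

theorem yp_add (Fr : Frame C b c w₁ w₂) (x y : F × F) : yp Fr x * yp Fr y = yp Fr (x + y) := by
  have h : C.g b ((x.1 • w₁ + x.2 • w₂) + (y.1 • w₁ + y.2 • w₂)) = 0 := by simp [Fr.b₁, Fr.b₂]
  rw [yp, yp, yv_add Fr.h2 Fr.bb _ _ h]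
  exact LinearEquiv.ext fun z => by simp [yp, yv_apply Fr.h2, Prod.fst_add, Prod.snd_add, add_smul]; module

theorem sum_ad_yv (hO : Ovg C K M) (Fr : Frame C b c w₁ w₂) (Z : Module.End F (ι → F)) :
    ∑ st : F × F, ad (yp Fr st) Z = 0 := by
  have h1 : ∀ s : F, C.g b (s • w₁) = 0 := fun s => by rw [map_smul, Fr.b₁, smul_zero]
  have h2 : ∀ s : F, C.g b (s • w₂) = 0 := fun s => by rw [map_smul, Fr.b₂, smul_zero]
  have e : ∀ s t : F, ad (yp Fr (s, t)) Z = ad (yv C Fr.bb (h1 s)) (ad (yv C Fr.bb (h2 t)) Z) := fun s t => by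
    rw [← Module.End.mul_apply, ← ad_mul, yv_add Fr.h2 Fr.bb _ _ (hst Fr (s, t))]; rfl
  have hS : sv C b w₁ * sv C b w₂ = 0 := LinearMap.ext fun x => by
    simp [sv, Module.End.mul_apply, C.prB_t, Fr.bb]
  rw [Fintype.sum_prod_type]
  simp only [e, ← map_sum]
  rw [sum_ad_line hO Fr.bb h1, sum_ad_line hO Fr.bb h2]
  simp only [mul_smul_comm, smul_mul_assoc, ← mul_assoc, hS, zero_mul, smul_zero]

theorem exists_fixed_vec (Fr : Frame C b c w₁ w₂) (U : Submodule F (Module.End F (ι → F))) (hU : U ≠ ⊥)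
    (hstab : ∀ st, ∀ u ∈ U, ad (yp Fr st) u ∈ U) : ∃ u ∈ U, u ≠ 0 ∧ ∀ st, ad (yp Fr st) u = u := by
  classical
  haveI : CharP F (ringChar F) := ringChar.charP F
  haveI : Fact (ringChar F).Prime := ⟨CharP.char_is_prime F (ringChar F)⟩
  set p := ringChar F
  obtain ⟨u₀, hu₀, hu₀0⟩ := Submodule.exists_mem_ne_zero_of_ne_bot hU
  haveI : Nontrivial (Module.End F (ι → F)) := ⟨⟨u₀, 0, hu₀0⟩⟩
  haveI : CharP (Module.End F (Module.End F (ι → F))) p :=
    charP_of_injective_algebraMap (algebraMap F (Module.End F (Module.End F (ι → F)))).injective p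
  suffices h : ∀ T : Finset (F × F), ∃ u ∈ U, u ≠ 0 ∧ ∀ st ∈ T, ad (yp Fr st) u = u by
    obtain ⟨u, hu, hu0, hfix⟩ := h Finset.univ
    exact ⟨u, hu, hu0, fun st => hfix st (Finset.mem_univ st)⟩
  intro T
  induction T using Finset.induction_on with
  | empty => exact ⟨u₀, hu₀, hu₀0, fun st h => absurd h (Finset.notMem_empty st)⟩
  | @insert g T _ ih =>
    obtain ⟨u, hu, hu0, hfix⟩ := ih
    set A := ad (yp Fr g) - 1 with hA
    have hAp : A ^ p = 0 := by
      rw [hA, sub_pow_char_of_commute (R := Module.End F (Module.End F (ι → F))) p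
        (Commute.one_right (ad (yp Fr g))), one_pow, ← ad_pow]
      rw [show yp Fr g ^ p = 1 from rad_pow Fr (yv_iso Fr.bb _) (rad_yv Fr.h2 Fr.bb _), ad_one, sub_self]
    have hmem : ∀ n, (A ^ n) u ∈ U ∧ ∀ st ∈ T, ad (yp Fr st) ((A ^ n) u) = (A ^ n) u := fun n => by
      induction n with
      | zero => exact ⟨hu, hfix⟩
      | succ n ihn =>
        rw [pow_succ', Module.End.mul_apply, hA, LinearMap.sub_apply, Module.End.one_apply]
        refine ⟨U.sub_mem (hstab g _ ihn.1) ihn.1, fun st hst' => ?_⟩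
        rw [map_sub, ← Module.End.mul_apply, ← ad_mul, yp_add, add_comm, ← yp_add, ad_mul,
          Module.End.mul_apply]
        simp only [ihn.2 st hst', show A = ad (yp Fr g) - 1 from rfl] at *
        rw [ihn.2 st hst']
    have hex : ∃ n, (A ^ n) u = 0 := ⟨p, by rw [hAp]; rfl⟩
    obtain ⟨n, hn⟩ : ∃ n, Nat.find hex = n + 1 := Nat.exists_eq_succ_of_ne_zero fun e => by
      have := Nat.find_spec hex
      rw [e, pow_zero, Module.End.one_apply] at this
      exact hu0 this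
    refine ⟨(A ^ n) u, (hmem n).1, Nat.find_min hex (by omega), fun st hst' => ?_⟩
    rcases Finset.mem_insert.1 hst' with rfl | h
    · have := Nat.find_spec hex
      rw [hn, pow_succ', Module.End.mul_apply, hA, LinearMap.sub_apply, Module.End.one_apply,
        sub_eq_zero] at this
      exact this
    · exact (hmem n).2 st h

/-! ### the average -/

/-- The tensor part of `M`. -/
def tenSub (C : TT ι F 3 4) (M : Subgroup ((ι → F) ≃ₗ[F] (ι → F))) : Subgroup M where
  carrier := {m | C.IsTen (m : (ι → F) ≃ₗ[F] (ι → F))}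
  one_mem' := ⟨1, 1, fun a z => rfl⟩
  mul_mem' := by
    rintro m m' ⟨σ, τ, h⟩ ⟨σ', τ', h'⟩
    exact ⟨σ * σ', τ * τ', fun a z => by
      rw [Subgroup.coe_mul, LinearEquiv.mul_apply, h', h]; rfl⟩
  inv_mem' := by
    rintro m ⟨σ, τ, h⟩
    refine ⟨σ.symm, τ.symm, fun a z => (m : (ι → F) ≃ₗ[F] (ι → F)).injective ?_⟩
    rw [h, LinearEquiv.apply_symm_apply, LinearEquiv.apply_symm_apply]
    exact (m : (ι → F) ≃ₗ[F] (ι → F)).apply_symm_apply _

theorem exists_idem_pow {R : Type*} [Monoid R] [Finite R] (a : R) :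
    ∃ N : ℕ, 0 < N ∧ a ^ N * a ^ N = a ^ N := by
  obtain ⟨i, j, hne, e⟩ := Finite.exists_ne_map_eq_of_infinite (fun n : ℕ => a ^ n)
  wlog hij : i < j generalizing i j
  · exact this j i hne.symm e.symm (by omega)
  obtain ⟨d, rfl⟩ := Nat.exists_eq_add_of_lt hij
  have hk : ∀ n, i ≤ n → ∀ k, a ^ (n + k * (d + 1)) = a ^ n := by
    intro n hn k
    induction k with
    | zero => simp
    | succ k ih =>
      obtain ⟨r, rfl⟩ := Nat.exists_eq_add_of_le hn
      rw [show i + r + (k + 1) * (d + 1) = i + d + 1 + (r + k * (d + 1)) by ring, pow_add, ← e, ← pow_add,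
        show i + (r + k * (d + 1)) = i + r + k * (d + 1) by ring, ih]
  refine ⟨(i + 1) * (d + 1), by positivity, ?_⟩
  rw [← pow_add]
  refine hk _ ?_ (i + 1)
  calc i ≤ (i + 1) * 1 := by omega
    _ ≤ _ := Nat.mul_le_mul_left _ (by omega)

/-- Every element of the overgroup is a tensor element. -/
theorem isTen_of_mem_ovg (hO : Ovg C K M) {m : (ι → F) ≃ₗ[F] (ι → F)} (hm : m ∈ M) : C.IsTen m := by
  classical
  obtain ⟨b, hb0, hb⟩ := exists_isotropic (C := C.swap) hO.h2 (by norm_num)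
  obtain ⟨c, w₁, w₂, Fr⟩ := exists_frame hO.h2 hO.noplane hb0 hb
  haveI : Finite (Module.End F (ι → F)) := Finite.of_injective _ DFunLike.coe_injective
  haveI : Finite (Module.End F (Module.End F (ι → F))) := Finite.of_injective _ DFunLike.coe_injective
  haveI : Finite ((ι → F) ≃ₗ[F] (ι → F)) := Finite.of_injective _ DFunLike.coe_injective
  let H := tenSub C M
  letI : Fintype (M ⧸ H) := Fintype.ofFinite _
  have hπH : ∀ h : M, h ∈ H → ad (h : (ι → F) ≃ₗ[F] (ι → F)) * piE C = piE C * ad (h : (ι → F) ≃ₗ[F] (ι → F)) :=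
    fun h ⟨σ, τ, e⟩ => LinearMap.ext fun Z => by
      have he := C.eq_te e
      have hi := hO.isoM h.2
      rw [he] at hi ⊢
      exact (piE_te hO hi Z).symm
  let fr : M → Module.End F (Module.End F (ι → F)) := fun r =>
    ad (r : (ι → F) ≃ₗ[F] (ι → F)) * piE C * ad ((r : (ι → F) ≃ₗ[F] (ι → F))⁻¹)
  let Fq : M ⧸ H → Module.End F (Module.End F (ι → F)) := fun q => fr q.out
  have hFq : ∀ r : M, Fq (r : M ⧸ H) = fr r := fun r => by
    obtain ⟨⟨h, hh⟩, e⟩ := QuotientGroup.mk_out_eq_mul H r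
    show fr _ = fr r
    rw [e]
    simp only [fr, Subgroup.coe_mul, mul_inv_rev, ad_mul]
    rw [mul_assoc (ad _) (ad (h : (ι → F) ≃ₗ[F] (ι → F))), hπH h hh]
    simp only [mul_assoc]
    rw [← mul_assoc (ad (h : (ι → F) ≃ₗ[F] (ι → F))), ← ad_mul (h : (ι → F) ≃ₗ[F] (ι → F)), mul_inv_cancel,
      ad_one, one_mul]
  have hFsm : ∀ (g : M) (q : M ⧸ H), Fq (g • q) =
      ad (g : (ι → F) ≃ₗ[F] (ι → F)) * Fq q * ad ((g : (ι → F) ≃ₗ[F] (ι → F))⁻¹) := fun g q => by
    induction q using QuotientGroup.induction_on with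
    | H r =>
      rw [MulAction.Quotient.smul_coe, smul_eq_mul, hFq, hFq]
      simp only [fr, Subgroup.coe_mul, mul_inv_rev, ad_mul, mul_assoc]
  set Φ := ∑ q, Fq q with hΦ
  have hΦc : ∀ g ∈ M, ad g * Φ = Φ * ad g := fun g hg => by
    have e : ad g * Φ * ad g⁻¹ = Φ := by
      rw [hΦ, Finset.mul_sum, Finset.sum_mul]
      refine (Finset.sum_congr rfl fun q _ => (hFsm ⟨g, hg⟩ q).symm).trans ?_
      exact Equiv.sum_comp (MulAction.toPerm (⟨g, hg⟩ : M)) Fq
    conv_rhs => rw [← e, mul_assoc, ← ad_mul, inv_mul_cancel, ad_one, mul_one]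
  have hyH : ∀ st, (⟨yp Fr st, yp_mem hO Fr st⟩ : M) ∈ H := fun st => isTen_te _ _
  have hπy : ∀ st u, piE C (ad (yp Fr st) u) = ad (yp Fr st) (piE C u) := fun st u =>
    (LinearMap.congr_fun (hπH _ (hyH st)) u).symm
  have hfix : ∀ u, (∀ st, ad (yp Fr st) u = u) → Φ u = piE C u := by
    intro u hu
    let y : F × F → M := fun st => ⟨yp Fr st, yp_mem hO Fr st⟩
    let q₀ : M ⧸ H := ((1 : M) : M ⧸ H)
    have hy0 : ∀ st, y st • q₀ = q₀ := fun st => by
      rw [show y st • q₀ = ((y st * 1 : M) : M ⧸ H) from rfl, mul_one]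
      refine QuotientGroup.eq.2 ?_
      rw [mul_one]
      exact inv_mem (hyH st)
    have hyadd : ∀ x z, y x * y z = y (x + z) := fun x z => Subtype.ext (yp_add Fr x z)
    have hy1 : y 0 = 1 := Subtype.ext (by
      show yp Fr 0 = 1
      exact LinearEquiv.ext fun x => by simp [yp, yv_apply Fr.h2])
    have hinj : ∀ q, q ≠ q₀ → ∀ st, y st • q = q → st = 0 := fun q hq st e => by
      by_contra hne
      obtain ⟨r, rfl⟩ := QuotientGroup.mk_surjective q
      rw [MulAction.Quotient.smul_coe, smul_eq_mul, QuotientGroup.eq] at e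
      have e' := inv_mem e
      rw [mul_inv_rev, inv_inv, ← mul_assoc] at e'
      have hv0 : st.1 • w₁ + st.2 • w₂ ≠ 0 := fun h0 => hne (by
        have i1 := congrArg (C.g w₁) h0
        have i2 := congrArg (C.g w₂) h0
        simp [Fr.w12, Fr.w21, Fr.q₁, Fr.q₂] at i1 i2
        exact Prod.ext i1 i2)
      have hten := isTen_of_conj hO Fr r.2 (hst Fr st) (by simp [Fr.c₁, Fr.c₂]) hv0 e'
      refine hq (QuotientGroup.eq.2 ?_)
      rw [mul_one]
      exact inv_mem hten
    have hψ : ∀ st q, Fq (y st • q) u = ad (yp Fr st) (Fq q u) := fun st q => by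
      rw [hFsm, Module.End.mul_apply, Module.End.mul_apply]
      congr 2
      conv_lhs => rw [← hu st]
      exact (ad_inv_apply _ u).1
    let orb : M ⧸ H → Finset (M ⧸ H) := fun q => Finset.univ.image fun st => y st • q
    have horb : ∀ q st, orb (y st • q) = orb q := fun q st => by
      ext x
      simp only [orb, Finset.mem_image, Finset.mem_univ, true_and, smul_smul, hyadd]
      exact ⟨fun ⟨a, h⟩ => ⟨a + st, h⟩, fun ⟨a, h⟩ => ⟨a - st, by rwa [sub_add_cancel]⟩⟩
    rw [hΦ, LinearMap.sum_apply, ← Finset.add_sum_erase _ _ (Finset.mem_univ q₀), hFq]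
    have h1 : fr 1 u = piE C u := by simp [fr, ad_one]
    rw [h1, add_eq_left, ← Finset.sum_fiberwise (Finset.univ.erase q₀) orb]
    refine Finset.sum_eq_zero fun O _ => ?_
    rcases (Finset.filter (fun q => orb q = O) (Finset.univ.erase q₀)).eq_empty_or_nonempty with h | ⟨q, hq⟩
    · rw [h, Finset.sum_empty]
    rw [Finset.mem_filter, Finset.mem_erase] at hq
    obtain ⟨⟨hq0, -⟩, rfl⟩ := hq
    rw [show Finset.filter (fun z => orb z = orb q) (Finset.univ.erase q₀) = orb q from ?_,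
      Finset.sum_image, Finset.sum_congr rfl fun st _ => hψ st q, sum_ad_yv hO Fr]
    · intro x _ z _ e
      have := hinj q hq0 (-z + x) (by
        rw [← hyadd, ← smul_smul, show y x • q = y z • q from e, smul_smul, hyadd, neg_add_cancel, hy1,
          one_smul])
      rwa [neg_add_eq_zero, eq_comm] at this
    · ext z
      simp only [Finset.mem_filter, Finset.mem_erase, Finset.mem_univ, and_true]
      refine ⟨fun ⟨_, hz⟩ => ?_, fun hz => ?_⟩
      · rw [← hz]
        exact Finset.mem_image.2 ⟨0, Finset.mem_univ _, by rw [hy1, one_smul]⟩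
      · obtain ⟨st, -, rfl⟩ := Finset.mem_image.1 hz
        refine ⟨fun e => hq0 ?_, horb q st⟩
        rw [← hy0 (-st), ← e, smul_smul, hyadd, neg_add_cancel, hy1, one_smul]
  obtain ⟨N, hN, hidem⟩ := exists_idem_pow Φ
  set E := Φ ^ N with hE
  have hEc : ∀ g ∈ M, ∀ u, ad g (E u) = E (ad g u) := fun g hg u => by
    have : Commute (ad g) E := (show Commute (ad g) Φ from hΦc g hg).pow_right N
    exact LinearMap.congr_fun this u
  have hEfix : ∀ u, (∀ st, ad (yp Fr st) u = u) → E u = piE C u := by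
    have h : ∀ n u, (∀ st, ad (yp Fr st) u = u) → (Φ ^ (n + 1)) u = piE C u := fun n => by
      induction n with
      | zero => intro u hu; rw [zero_add, pow_one, hfix u hu]
      | succ n ih =>
        intro u hu
        rw [pow_succ, Module.End.mul_apply, hfix u hu, ih _ fun st => by rw [← hπy, hu], piE_piE]
    intro u hu
    obtain ⟨n, rfl⟩ : ∃ n, N = n + 1 := ⟨N - 1, by omega⟩
    exact h n u hu
  have hker : ∀ (r : F), r ≠ 0 → ∀ x, E x - piE C x = r • x → x = 0 := by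
    intro r hr x hx
    by_contra hx0
    let U := LinearMap.ker (E - piE C - r • LinearMap.id)
    have hUm : ∀ z, z ∈ U ↔ E z - piE C z = r • z := fun z => by
      simp [U, LinearMap.mem_ker, sub_eq_zero]
    obtain ⟨u, hu, hu0, huf⟩ := exists_fixed_vec Fr U
      (fun e => hx0 (by simpa [e] using (hUm x).2 hx)) fun st z hz => by
      rw [hUm] at hz ⊢
      rw [← hEc _ (yp_mem hO Fr st), hπy, ← map_sub, hz, map_smul]
    rw [hUm, hEfix u huf, sub_self] at hu
    exact hu0 ((smul_eq_zero.1 hu.symm).resolve_left hr)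
  have hEπ : ∀ x, E x = x → piE C x = x := fun x hx => by
    refine piE_of_commute hO fun τ hτ => ?_
    obtain ⟨⟨J, hJ, hJJ⟩, -⟩ := pairRefl_square (C := C.swap) hO.h2 hτ
    have hte : C.te (LinearEquiv.refl F _) τ ∈ M := by
      have := hO.te_sq (σ := 1) (τ := J) (fun _ _ => rfl) hJ
      rwa [one_mul, hJJ] at this
    set z := C.te (LinearEquiv.refl F _) τ
    have hπz : piE C (ad z x) = piE C x := by
      rw [piE_te hO (hO.isoM hte), piE_apply, ad_te_tm, cjA_refl,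
        show cjA τ (LinearMap.id : (Fin 4 → F) →ₗ[F] (Fin 4 → F)) = LinearMap.id from cjA_id (n₁ := 4) τ]
    refine sub_eq_zero.1 (hker 1 one_ne_zero _ ?_)
    rw [map_sub, map_sub, ← hEc z hte, hx, hπz, sub_self, sub_zero, one_smul]
  have hrange : LinearMap.range (piE C) ≤ LinearMap.range E := by
    have hle : LinearMap.range E ≤ LinearMap.range (piE C) := by
      rintro _ ⟨x, rfl⟩
      exact ⟨E x, hEπ _ (LinearMap.congr_fun hidem x)⟩
    refine (Submodule.eq_of_le_of_finrank_le hle ?_).ge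
    have hinj : Function.Injective (E.domRestrict (LinearMap.range (piE C))) := by
      rintro ⟨_, w, rfl⟩ ⟨_, w', rfl⟩ e
      have e' : E (piE C w) = E (piE C w') := e
      refine Subtype.ext (sub_eq_zero.1 (hker (-1) (neg_ne_zero.2 one_ne_zero) _ ?_))
      show E (piE C w - piE C w') - piE C (piE C w - piE C w') = _
      rw [map_sub, e', sub_self, map_sub, piE_piE, piE_piE]
      module
    rw [← LinearMap.finrank_range_of_inj hinj]
    refine Submodule.finrank_mono ?_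
    rintro _ ⟨u, rfl⟩
    exact ⟨u.1, rfl⟩
  have hinv : ∀ g ∈ M, ∀ N₀, ∃ N', ad g (C.tm N₀ LinearMap.id) = C.tm N' LinearMap.id := fun g hg N₀ => by
    obtain ⟨z, hz⟩ := hrange ⟨_, piE_tm N₀⟩
    refine ⟨nz C (ad g (C.tm N₀ LinearMap.id)), ?_⟩
    rw [← piE_apply, eq_comm, ← hz]
    exact hEπ _ (by rw [← hEc g hg, ← Module.End.mul_apply E E, hE, hidem])
  -- the commutant
  set L : (Fin 4 → F) →ₗ[F] (Fin 4 → F) := C.swap.sm b b
  set Z : Module.End F (ι → F) := ad m (C.tm LinearMap.id L) with hZ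
  have hZc : ∀ N₀ x, Z (C.tm N₀ LinearMap.id x) = C.tm N₀ LinearMap.id (Z x) := fun N₀ x => by
    obtain ⟨N', hN'⟩ := hinv m⁻¹ (inv_mem hm) N₀
    have h1 : ∀ y, C.tm N₀ LinearMap.id (m y) = m (C.tm N' LinearMap.id y) := fun y => by
      rw [← hN', ad_apply]
      exact (m.apply_symm_apply _).symm.trans (congrArg m rfl)
    obtain ⟨y, rfl⟩ := m.surjective x
    rw [h1, hZ, ad_apply, ad_apply, m.symm_apply_apply, m.symm_apply_apply, h1, C.tm_comp, C.tm_comp]
    simp
  obtain ⟨a₁, ha₁⟩ := exists_aniso (C := C) hO.h1 le_rfl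
  set x₁ := (C.f a₁ a₁)⁻¹ • a₁
  have hx₁ : C.f x₁ a₁ = 1 := by simp [x₁, ha₁]
  set L' : (Fin 4 → F) →ₗ[F] (Fin 4 → F) := (C.prA x₁).comp (Z.comp (C.t a₁))
  have hsm : ∀ a x, C.tm (C.sm a x₁) LinearMap.id x = C.t a (C.prA x₁ x) := fun a x =>
    LinearMap.congr_fun (C.ext_pure (L := C.tm (C.sm a x₁) LinearMap.id)
      (L' := (C.t a).comp (C.prA x₁)) fun u z => by
      simp [C.tm_t, sm_apply, C.prA_t, f_comm hO.h1 x₁ u]) x
  have hZt : ∀ a y, Z (C.t a y) = C.t a (L' y) := fun a y => by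
    have e := hZc (C.sm a x₁) (C.t a₁ y)
    rw [C.tm_t, sm_apply, hx₁, one_smul, LinearMap.id_apply, hsm] at e
    exact e
  have hmb : ∀ a, m (C.t a b) = Z (m (C.t a c)) := fun a => by
    rw [hZ, ad_apply, m.symm_apply_apply, C.tm_t, LinearMap.id_apply]
    simp [L, sm_apply, show C.swap.f b c = C.g b c from rfl, Fr.bc]
  have hiso := hO.isoM hm
  have hisoL : ∀ y y', C.g (L' y) (L' y') = 0 := fun y y' => by
    have e : ∀ x x', C.p (Z x) (Z x') = 0 := fun x x' => by
      rw [hZ, ad_apply, ad_apply, hiso]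
      have : ∀ u, C.tm LinearMap.id L u ∈ LinearMap.range (C.t.flip b) := fun u => by
        rw [C.eq_sum u, map_sum]
        refine Submodule.sum_mem _ fun i _ => ?_
        rw [C.tm_t]
        exact ⟨C.g b (Pi.single i 1) • C.prB (C.dB i) u, by simp [L, sm_apply]; rfl⟩
      obtain ⟨u, hu⟩ := this (m.symm x)
      obtain ⟨u', hu'⟩ := this (m.symm x')
      rw [← hu, ← hu', LinearMap.flip_apply, LinearMap.flip_apply, C.pol, Fr.bb, mul_zero]
    have h := e (C.t a₁ y) (C.t a₁ y')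
    rw [hZt, hZt, C.pol] at h
    exact (mul_eq_zero.1 h).resolve_left ha₁
  obtain ⟨y₀, hy₀⟩ : ∃ y, L' y ≠ 0 := by
    by_contra! hall
    have hZ0 : Z = 0 := C.ext_pure fun a y => by rw [hZt, hall, map_zero]; rfl
    have := hmb a₁
    rw [hZ0, LinearMap.zero_apply, LinearEquiv.map_eq_zero_iff] at this
    exact ha₁ (by rw [C.t_inj Fr.b_ne (a := a₁) (a' := 0) (by rw [this, map_zero, LinearMap.zero_apply])]; simp)
  refine isTen_of_line hO hm Fr.b_ne Fr.bb hy₀ (hisoL y₀ y₀) fun a => ?_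
  have hr : ∀ x, Z x ∈ LinearMap.range (C.t.flip (L' y₀)) := fun x => by
    rw [C.eq_sum x, map_sum]
    refine Submodule.sum_mem _ fun i _ => ?_
    obtain ⟨r, hr⟩ := Submodule.mem_span_singleton.1
      (hO.noplane _ (L' (Pi.single i 1)) (hisoL _ _) (hisoL _ _) (hisoL y₀ _) hy₀)
    exact ⟨r • C.prB (C.dB i) x, by rw [hZt, ← hr]; simp⟩
  obtain ⟨a', ha'⟩ := hr (m (C.t a c))
  exact ⟨a', by rw [hmb, ← ha']; rfl⟩

end Cfsg.Agent.TenForm.ThreeFour
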