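import Cfsg.Agent.Lib.C4.TenMax

/-!
# `A ⊗ B` with `dim A = 3` and `dim B = 4` of minus type: frames and the radical of a ruling

* `Ovg` : the standing hypotheses on an overgroup
* `Frame` : a hyperbolic pair and an orthogonal basis of its complement in `B`
* `yv` : the elements `1 ⊗ eA (b, v)`; `Rad4`, `LM`
-/

set_option autoImplicit false
set_option linter.unusedSectionVars false
set_option linter.unusedSimpArgs false

namespace Cfsg.Agent.TenForm.ThreeFour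

open Module
open Cfsg.Agent.TenForm TT

variable {ι : Type} [Fintype ι] [DecidableEq ι] {F : Type*} [Field F] [Fintype F]

/-- The standing hypotheses. -/
structure Ovg (C : TT ι F 3 4) (K M : Subgroup ((ι → F) ≃ₗ[F] (ι → F))) : Prop where
  h1 : C.s₁ = 1
  h2 : C.s₂ = 1
  card : 5 ≤ Fintype.card F
  noplane : ∀ u v, C.g u u = 0 → C.g v v = 0 → C.g u v = 0 → u ≠ 0 → v ∈ F ∙ u
  iso : ∀ m ∈ K, C.Iso m
  le : M ≤ K
  sq : ∀ m, C.Iso m → m * m ∈ K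
  ten : ∀ m ∈ K, C.IsTen m → m ∈ M
  proper : ¬ ∀ g ∈ Cfsg.Omega F ⇑C.qV, C.toLE g ∈ M

variable {C : TT ι F 3 4} {K M : Subgroup ((ι → F) ≃ₗ[F] (ι → F))}

theorem Ovg.isoM (hO : Ovg C K M) {m : (ι → F) ≃ₗ[F] (ι → F)} (hm : m ∈ M) : C.Iso m :=
  hO.iso m (hO.le hm)

theorem Ovg.hiso (hO : Ovg C K M) : ∀ m ∈ M, C.Iso m := fun _ hm => hO.isoM hm

theorem Ovg.te_sq (hO : Ovg C K M) {σ : (Fin 3 → F) ≃ₗ[F] (Fin 3 → F)}
    {τ : (Fin 4 → F) ≃ₗ[F] (Fin 4 → F)} (hσ : ∀ u v, C.f (σ u) (σ v) = C.f u v)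
    (hτ : ∀ u v, C.g (τ u) (τ v) = C.g u v) : C.te (σ * σ) (τ * τ) ∈ M := by
  refine hO.ten _ ?_ (isTen_te _ _)
  rw [← te_mul]
  exact hO.sq _ (iso_te hσ hτ)

theorem Ovg.left (hO : Ovg C K M) : C.LeftE M := fun a x ha hx => by
  have hx' : C.f a ((2 : F)⁻¹ • x) = 0 := by rw [map_smul, hx, smul_zero]
  have := hO.te_sq (σ := C.eA ha hx') (τ := 1) (C.eA_iso ha hx') fun _ _ => rfl
  rw [eA_half ha hx hx', one_mul] at this
  exact this

theorem Ovg.right (hO : Ovg C K M) : C.swap.LeftE M := fun a x ha hx => by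
  have hx' : C.swap.f a ((2 : F)⁻¹ • x) = 0 := by rw [map_smul, hx, smul_zero]
  rw [te_swap]
  have := hO.te_sq (σ := 1) (τ := C.swap.eA ha hx') (fun _ _ => rfl) (C.swap.eA_iso ha hx')
  rw [eA_half (C := C.swap) ha hx hx', one_mul] at this
  exact this

theorem Ovg.q3 (hO : Ovg C K M) : 3 < Fintype.card F := by have := hO.card; omega

theorem gcomm (h2 : C.s₂ = 1) (y z : Fin 4 → F) : C.g y z = C.g z y := f_comm (C := C.swap) h2 y z

/-! ### frames -/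

/-- A hyperbolic pair and an orthogonal basis of its orthogonal complement. -/
structure Frame (C : TT ι F 3 4) (b c w₁ w₂ : Fin 4 → F) : Prop where
  h2 : C.s₂ = 1
  bb : C.g b b = 0
  cc : C.g c c = 0
  bc : C.g b c = 1
  b₁ : C.g b w₁ = 0
  c₁ : C.g c w₁ = 0
  b₂ : C.g b w₂ = 0
  c₂ : C.g c w₂ = 0
  w12 : C.g w₁ w₂ = 0
  q₁ : C.g w₁ w₁ ≠ 0
  q₂ : C.g w₂ w₂ ≠ 0

namespace Frame

variable {b c w₁ w₂ : Fin 4 → F} (Fr : Frame C b c w₁ w₂)
include Fr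

theorem cb : C.g c b = 1 := by rw [gcomm Fr.h2, Fr.bc]
theorem r₁ : C.g w₁ b = 0 := C.g_zero_comm Fr.b₁
theorem s₁ : C.g w₁ c = 0 := C.g_zero_comm Fr.c₁
theorem r₂ : C.g w₂ b = 0 := C.g_zero_comm Fr.b₂
theorem s₂ : C.g w₂ c = 0 := C.g_zero_comm Fr.c₂
theorem w21 : C.g w₂ w₁ = 0 := C.g_zero_comm Fr.w12

theorem b_ne : b ≠ 0 := fun h => by
  have := Fr.bc
  rw [h, map_zero, LinearMap.zero_apply] at this
  exact zero_ne_one this

theorem dec_B (z : Fin 4 → F) : z = C.g c z • b + C.g b z • c +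
    (C.g w₁ z / C.g w₁ w₁) • w₁ + (C.g w₂ z / C.g w₂ w₂) • w₂ := by
  have hli : LinearIndependent F ![b, c, w₁, w₂] := by
    rw [Fintype.linearIndependent_iff]
    intro u hu
    simp [Fin.sum_univ_four] at hu
    have e0 := congrArg (C.g c) hu
    have e1 := congrArg (C.g b) hu
    have e2 := congrArg (C.g w₁) hu
    have e3 := congrArg (C.g w₂) hu
    simp [Fr.cb, Fr.bc, Fr.bb, Fr.cc, Fr.b₁, Fr.b₂, Fr.c₁, Fr.c₂, Fr.r₁, Fr.r₂, Fr.s₁, Fr.s₂, Fr.w12,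
      Fr.w21, Fr.q₁, Fr.q₂] at e0 e1 e2 e3
    intro i
    fin_cases i
    · exact e0
    · exact e1
    · exact e2
    · exact e3
  have hz : z ∈ Submodule.span F (Set.range ![b, c, w₁, w₂]) := by
    rw [hli.span_eq_top_of_card_eq_finrank (by simp)]; trivial
  obtain ⟨u, hu⟩ := (Submodule.mem_span_range_iff_exists_fun F).1 hz
  subst hu
  simp [Fin.sum_univ_four, Fr.cb, Fr.bc, Fr.bb, Fr.cc, Fr.b₁, Fr.b₂, Fr.c₁, Fr.c₂, Fr.r₁, Fr.r₂, Fr.s₁,
    Fr.s₂, Fr.w12, Fr.w21, Fr.q₁, Fr.q₂]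

theorem dec_V (x : ι → F) : x = C.t (C.prB c x) b + C.t (C.prB b x) c +
    C.t ((C.g w₁ w₁)⁻¹ • C.prB w₁ x) w₁ + C.t ((C.g w₂ w₂)⁻¹ • C.prB w₂ x) w₂ :=
  LinearMap.congr_fun (C.ext_pure (L := LinearMap.id)
    (L' := (C.t.flip b).comp (C.prB c) + (C.t.flip c).comp (C.prB b) +
      (C.t.flip w₁).comp ((C.g w₁ w₁)⁻¹ • C.prB w₁) + (C.t.flip w₂).comp ((C.g w₂ w₂)⁻¹ • C.prB w₂))
    fun a z => by
      conv_lhs => rw [Fr.dec_B z]
      simp [C.prB_t, map_add, smul_smul, gcomm Fr.h2 z, div_eq_inv_mul, mul_comm]) x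

/-- A vector orthogonal to all of `A ⊗ b` in the frame. -/
theorem dec_perp {x : ι → F} (hx : C.prB b x = 0) : x = C.t (C.prB c x) b +
    C.t ((C.g w₁ w₁)⁻¹ • C.prB w₁ x) w₁ + C.t ((C.g w₂ w₂)⁻¹ • C.prB w₂ x) w₂ := by
  conv_lhs => rw [Fr.dec_V x, hx, map_zero, LinearMap.zero_apply, add_zero]

end Frame

theorem exists_frame (h2 : C.s₂ = 1)
    (hW : ∀ u v, C.g u u = 0 → C.g v v = 0 → C.g u v = 0 → u ≠ 0 → v ∈ F ∙ u)
    {b : Fin 4 → F} (hb0 : b ≠ 0) (hb : C.g b b = 0) :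
    ∃ c w₁ w₂, Frame C b c w₁ w₂ := by
  obtain ⟨c, hc', hbc'⟩ := partner (C := C.swap) h2 hb0 hb
  have hc : C.g c c = 0 := hc'
  have hbc : C.g b c = 1 := hbc'
  have haniso : ∀ w, C.g b w = 0 → C.g c w = 0 → w ≠ 0 → C.g w w ≠ 0 := fun w h h' hw0 hw => by
    obtain ⟨r, rfl⟩ := Submodule.mem_span_singleton.1 (hW b w hb hw h hb0)
    rw [map_smul, gcomm h2 c b, hbc, smul_eq_mul, mul_one] at h'
    exact hw0 (by rw [h', zero_smul])
  obtain ⟨w₁, hw, hw0⟩ := C4.SS.exists_ker_not_mem ![C.g b, C.g c] (⊥ : Submodule F (Fin 4 → F))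
    (by rw [finrank_bot]; omega)
  obtain ⟨w₂, hw', hw0'⟩ := C4.SS.exists_ker_not_mem ![C.g b, C.g c, C.g w₁]
    (⊥ : Submodule F (Fin 4 → F)) (by rw [finrank_bot]; omega)
  exact ⟨c, w₁, w₂, h2, hb, hc, hbc, hw 0, hw 1, hw' 0, hw' 1, hw' 2,
    haniso _ (hw 0) (hw 1) (by simpa using hw0), haniso _ (hw' 0) (hw' 1) (by simpa using hw0')⟩

/-- The complement of the hyperbolic pair is anisotropic. -/
theorem Frame.aniso {b c w₁ w₂ : Fin 4 → F} (Fr : Frame C b c w₁ w₂)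
    (hW : ∀ u v, C.g u u = 0 → C.g v v = 0 → C.g u v = 0 → u ≠ 0 → v ∈ F ∙ u)
    {w : Fin 4 → F} (h : C.g b w = 0) (h' : C.g c w = 0) (hw0 : w ≠ 0) : C.g w w ≠ 0 := fun hw => by
  obtain ⟨r, rfl⟩ := Submodule.mem_span_singleton.1 (hW b w Fr.bb hw h Fr.b_ne)
  rw [map_smul, Fr.cb, smul_eq_mul, mul_one] at h'
  exact hw0 (by rw [h', zero_smul])

/-! ### the elements `1 ⊗ eA (b, v)` -/

/-- `1 ⊗ eA (b, v)`. -/
noncomputable def yv (C : TT ι F 3 4) {b v : Fin 4 → F} (hb : C.g b b = 0) (hv : C.g b v = 0) :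
    (ι → F) ≃ₗ[F] (ι → F) :=
  C.te (LinearEquiv.refl F _) (C.swap.eA (a := b) (x := v) hb hv)

theorem yv_t (h2 : C.s₂ = 1) {b v : Fin 4 → F} (hb : C.g b b = 0) (hv : C.g b v = 0) (a : Fin 3 → F)
    (z : Fin 4 → F) : yv C hb hv (C.t a z) =
      C.t a (z + C.g v z • b - C.g b z • v - (C.g b z * C.g v v / 2) • b) := by
  rw [yv, C.te_t, LinearEquiv.refl_apply]
  congr 1
  exact eA_val (C := C.swap) h2 hb hv z

theorem yv_apply (h2 : C.s₂ = 1) {b v : Fin 4 → F} (hb : C.g b b = 0) (hv : C.g b v = 0) (x : ι → F) :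
    yv C hb hv x = x + C.t (C.prB v x) b - C.t (C.prB b x) v -
      C.t ((C.g v v / 2) • C.prB b x) b :=
  LinearMap.congr_fun (C.ext_pure (L := (yv C hb hv).toLinearMap)
    (L' := LinearMap.id + (C.t.flip b).comp (C.prB v) - (C.t.flip v).comp (C.prB b) -
      (C.t.flip b).comp ((C.g v v / 2) • C.prB b)) fun a z => by
    simp [yv_t h2, C.prB_t, gcomm h2 z, smul_smul, mul_comm, mul_div_assoc]) x

theorem yv_mem (hO : Ovg C K M) {b v : Fin 4 → F} (hb : C.g b b = 0) (hv : C.g b v = 0) :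
    yv C hb hv ∈ M := LeftE.swap_mem hO.right b v hb hv

theorem yv_iso {b v : Fin 4 → F} (hb : C.g b b = 0) (hv : C.g b v = 0) : C.Iso (yv C hb hv) :=
  iso_te (fun _ _ => rfl) (C.swap.eA_iso (a := b) (x := v) hb hv)

theorem yv_add (h2 : C.s₂ = 1) {b v v' : Fin 4 → F} (hb : C.g b b = 0) (hv : C.g b v = 0)
    (hv' : C.g b v' = 0) (hvv : C.g b (v + v') = 0) :
    yv C hb hv * yv C hb hv' = yv C hb hvv :=
  LinearEquiv.ext fun x => LinearMap.congr_fun (C.ext_pure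
    (L := (yv C hb hv * yv C hb hv').toLinearMap) (L' := (yv C hb hvv).toLinearMap) fun a z => by
    have h2' := C.two
    simp [LinearEquiv.mul_apply, yv_t h2, hb, hv, hv', gcomm h2 v b, gcomm h2 v' b, gcomm h2 v' v,
      map_sub, map_add, map_smul]
    match_scalars <;> field_simp <;> ring) x

theorem yv_zero (h2 : C.s₂ = 1) {b : Fin 4 → F} (hb : C.g b b = 0) (h0 : C.g b 0 = 0) :
    yv C hb h0 = 1 := LinearEquiv.ext fun x => by simp [yv_apply h2]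

/-! ### the radical -/

/-- Trivial on `A ⊗ b` and on `A ⊗ b^⊥` modulo `A ⊗ b`. -/
def Rad4 (C : TT ι F 3 4) (b : Fin 4 → F) (m : (ι → F) ≃ₗ[F] (ι → F)) : Prop :=
  (∀ a, m (C.t a b) = C.t a b) ∧ ∀ x, C.prB b x = 0 → ∃ a, m x = x + C.t a b

/-- The operator by which an element of the radical moves `A ⊗ w`. -/
noncomputable def LM (C : TT ι F 3 4) (c : Fin 4 → F) (m : (ι → F) ≃ₗ[F] (ι → F)) (w : Fin 4 → F) :
    (Fin 3 → F) →ₗ[F] (Fin 3 → F) :=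
  (C.prB c).comp ((m.toLinearMap - LinearMap.id).comp (C.t.flip w))

variable {b c : Fin 4 → F} {m m' : (ι → F) ≃ₗ[F] (ι → F)}

theorem Rad4.mul (h : Rad4 C b m) (h' : Rad4 C b m') : Rad4 C b (m * m') :=
  ⟨fun a => by rw [LinearEquiv.mul_apply, h'.1, h.1], fun x hx => by
    obtain ⟨a, ha⟩ := h'.2 x hx
    obtain ⟨a', ha'⟩ := h.2 x hx
    exact ⟨a' + a, by
      rw [LinearEquiv.mul_apply, ha, map_add m, ha', h.1, map_add C.t, LinearMap.add_apply, add_assoc]⟩⟩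

theorem Rad4.inv (h : Rad4 C b m) : Rad4 C b m⁻¹ := by
  have hfix : ∀ a, m⁻¹ (C.t a b) = C.t a b := fun a => by
    show m.symm _ = _
    rw [LinearEquiv.symm_apply_eq, h.1]
  refine ⟨hfix, fun x hx => ?_⟩
  obtain ⟨a, ha⟩ := h.2 x hx
  refine ⟨-a, m.injective ?_⟩
  show m (m.symm x) = _
  rw [LinearEquiv.apply_symm_apply, map_add, ha, h.1]
  simp

theorem Rad4.comm_on (h : Rad4 C b m) (h' : Rad4 C b m') {x : ι → F} (hx : C.prB b x = 0) :
    m (m' x) = m' (m x) := by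
  obtain ⟨a, ha⟩ := h'.2 x hx
  obtain ⟨a', ha'⟩ := h.2 x hx
  rw [ha, ha', map_add, map_add, h.1, h'.1, ha, ha']
  abel

theorem prB_map (hi : C.Iso m) (h : ∀ a, m (C.t a b) = C.t a b) (x : ι → F) :
    C.prB b (m x) = C.prB b x :=
  C.f_ext fun a => by
    rw [C.f_prB, C.f_prB]
    nth_rewrite 1 [← h a]
    rw [hi]

theorem rad_yv (h2 : C.s₂ = 1) {v : Fin 4 → F} (hb : C.g b b = 0) (hv : C.g b v = 0) :
    Rad4 C b (yv C hb hv) :=
  ⟨fun a => by rw [yv_t h2, gcomm h2 v b, hv, hb]; simp, fun x hx => ⟨C.prB v x, by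
    rw [yv_apply h2, hx, smul_zero, map_zero, LinearMap.zero_apply, sub_zero, LinearMap.zero_apply,
      sub_zero]⟩⟩

/-- `LM` computes the radical elements. -/
theorem lm_spec (h2 : C.s₂ = 1) (hbc : C.g b c = 1) (h : Rad4 C b m) {w : Fin 4 → F}
    (hw : C.g b w = 0) (a : Fin 3 → F) : m (C.t a w) = C.t a w + C.t (LM C c m w a) b := by
  obtain ⟨a', ha'⟩ := h.2 (C.t a w) (by rw [C.prB_t, gcomm h2, hw, zero_smul])
  have : LM C c m w a = a' := by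
    show C.prB c (m (C.t a w) - C.t a w) = a'
    rw [ha', add_sub_cancel_left, C.prB_t, hbc, one_smul]
  rw [this, ha']

theorem lm_mul (h2 : C.s₂ = 1) (hbc : C.g b c = 1) (h : Rad4 C b m) (h' : Rad4 C b m')
    {w : Fin 4 → F} (hw : C.g b w = 0) : LM C c (m * m') w = LM C c m w + LM C c m' w :=
  LinearMap.ext fun a => C.t_inj (b := b) (fun hb0 => by
    rw [hb0, map_zero, LinearMap.zero_apply] at hbc; exact zero_ne_one hbc) (by
    have e := lm_spec h2 hbc (h.mul h') hw a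
    rw [LinearEquiv.mul_apply, lm_spec h2 hbc h' hw, map_add m, h.1, lm_spec h2 hbc h hw, add_assoc,
      ← LinearMap.add_apply, ← map_add C.t] at e
    exact (add_left_cancel e).symm)

theorem lm_one (w : Fin 4 → F) : LM C c (1 : (ι → F) ≃ₗ[F] (ι → F)) w = 0 :=
  LinearMap.ext fun a => by
    show C.prB c (C.t a w - C.t a w) = 0
    rw [sub_self, map_zero]

theorem lm_inv (h2 : C.s₂ = 1) (hbc : C.g b c = 1) (h : Rad4 C b m) {w : Fin 4 → F}
    (hw : C.g b w = 0) : LM C c m⁻¹ w = -LM C c m w := by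
  have := lm_mul h2 hbc h h.inv hw
  rw [mul_inv_cancel, lm_one] at this
  exact eq_neg_of_add_eq_zero_right this.symm

theorem lm_yv (h2 : C.s₂ = 1) {v w : Fin 4 → F} (hb : C.g b b = 0) (hbc : C.g b c = 1)
    (hv : C.g b v = 0) (hw : C.g b w = 0) :
    LM C c (yv C hb hv) w = C.g v w • LinearMap.id :=
  LinearMap.ext fun a => by
    show C.prB c (yv C hb hv (C.t a w) - C.t a w) = _
    rw [yv_t h2, hw]
    simp [C.prB_t, hbc]

end Cfsg.Agent.TenForm.ThreeFour
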