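import Cfsg.Agent.Lib.C4.ThreeFour.Rad

/-!
# `A ⊗ B`, `dim A = 3`, `dim B = 4`: tensor conjugates of the elements `yv`

* `isTen_of_conj` : `g ∈ M` with `g⁻¹ yv g` a tensor element is a tensor element
-/

set_option autoImplicit false
set_option linter.unusedSectionVars false
set_option linter.unusedSimpArgs false

namespace Cfsg.Agent.TenForm.ThreeFour

open Module
open Cfsg.Agent.TenForm TT

variable {ι : Type} [Fintype ι] [DecidableEq ι] {F : Type*} [Field F] [Fintype F]
variable {C : TT ι F 3 4} {K M : Subgroup ((ι → F) ≃ₗ[F] (ι → F))}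
variable {b c w₁ w₂ : Fin 4 → F}

theorem te_pow (σ : (Fin 3 → F) ≃ₗ[F] (Fin 3 → F)) (τ : (Fin 4 → F) ≃ₗ[F] (Fin 4 → F)) (n : ℕ) :
    (C.te σ τ) ^ n = C.te (σ ^ n) (τ ^ n) := by
  induction n with
  | zero => exact C.eq_te fun a z => rfl
  | succ n ih => rw [pow_succ, pow_succ, pow_succ, ih, te_mul]

theorem yv_sq (h2 : C.s₂ = 1) {v : Fin 4 → F} (hb : C.g b b = 0) (hv : C.g b v = 0) (x : ι → F) :
    yv C hb hv (yv C hb hv x) - (2 : F) • yv C hb hv x + x =
      C.t ((-C.g v v) • C.prB b x) b :=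
  LinearMap.congr_fun (C.ext_pure
    (L := (yv C hb hv).toLinearMap.comp (yv C hb hv).toLinearMap - (2 : F) • (yv C hb hv).toLinearMap +
      LinearMap.id)
    (L' := (C.t.flip b).comp ((-C.g v v) • C.prB b)) fun a z => by
    have h2' := C.two
    simp [yv_t h2, C.prB_t, gcomm h2 v b, gcomm h2 z b, hb, hv, map_sub, map_add, map_smul]
    match_scalars <;> field_simp <;> ring) x

/-- A unipotent similitude of a three-dimensional space with `(σ - 1)² = 0` is trivial. -/
theorem eq_zero_of_sq (h1 : C.s₁ = 1) {S : Module.End F (Fin 3 → F)} (hS : ∀ a, S (S a) = 0)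
    (hiso : ∀ a a', C.f (a + S a) (a' + S a') = C.f a a') : S = 0 := by
  have e : ∀ a a', C.f (S a) a' + C.f a (S a') + C.f (S a) (S a') = 0 := fun a a' => by
    have := hiso a a'
    simp only [map_add, LinearMap.add_apply] at this
    linear_combination this
  have hSS : ∀ a a', C.f (S a) (S a') = 0 := fun a a' => by
    have := e a (S a')
    simpa [hS] using this
  refine LinearMap.ext fun a₀ => ?_
  by_contra h0
  refine h0 (C.fnd _ fun a => ?_)
  obtain ⟨r, hr⟩ := Submodule.mem_span_singleton.1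
    (no_plane (C := C) h1 le_rfl (S a₀) (S a) (hSS _ _) (hSS _ _) (hSS _ _) h0)
  have h00 : C.f a₀ (S a₀) = 0 := by
    have := e a₀ a₀
    rw [hSS, f_comm h1 (S a₀) a₀] at this
    exact (mul_eq_zero.1 (show (2 : F) * C.f a₀ (S a₀) = 0 by linear_combination this)).resolve_left C.two
  have := e a₀ a
  rw [hSS, ← hr, map_smul, h00, smul_zero, add_zero, add_zero] at this
  exact this

theorem isTen_of_conj (hO : Ovg C K M) (Fr : Frame C b c w₁ w₂) {g : (ι → F) ≃ₗ[F] (ι → F)}
    (hg : g ∈ M) {v : Fin 4 → F} (hv : C.g b v = 0) (hcv : C.g c v = 0) (hv0 : v ≠ 0)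
    (hz : C.IsTen (g⁻¹ * yv C Fr.bb hv * g)) : C.IsTen g := by
  haveI : CharP F (ringChar F) := ringChar.charP F
  haveI : Fact (ringChar F).Prime := ⟨CharP.char_is_prime F (ringChar F)⟩
  set p := ringChar F
  have h2 := hO.h2
  obtain ⟨σ, τ, hst⟩ := hz
  set z := g⁻¹ * yv C Fr.bb hv * g with hzd
  have hzp : z ^ p = 1 := by
    rw [hzd, show g⁻¹ * yv C Fr.bb hv * g = g⁻¹ * yv C Fr.bb hv * g⁻¹⁻¹ by rw [inv_inv], conj_pow,
      rad_pow Fr (yv_iso Fr.bb hv) (rad_yv h2 Fr.bb hv)]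
    simp
  have hgz : ∀ x, g (z x) = yv C Fr.bb hv (g x) := fun x => g.apply_symm_apply _
  have hzI : C.Iso z := hO.isoM (mul_mem (mul_mem (inv_mem hg) (yv_mem hO Fr.bb hv)) hg)
  have hvv : C.g v v ≠ 0 := Fr.aniso hO.noplane hv hcv hv0
  -- the scalar `σ ^ p`
  obtain ⟨cst, hc⟩ : ∃ cst : F, ∀ a, (σ ^ p) a = cst • a := by
    obtain ⟨y, hy'⟩ := C.swap.exists_dual ((τ ^ p).map_ne_zero_iff.2 Fr.b_ne)
    have hy : C.g ((τ ^ p) b) y = 1 := hy'
    refine ⟨C.g b y, fun a => ?_⟩
    have e := congrArg (C.prB y) (LinearEquiv.congr_fun hzp (C.t a b))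
    rwa [C.eq_te hst, te_pow, C.te_t, C.prB_t, hy, one_smul,
      show (1 : (ι → F) ≃ₗ[F] (ι → F)) (C.t a b) = C.t a b from rfl, C.prB_t] at e
  have hc0 : cst ≠ 0 := fun e => by
    obtain ⟨a₀, ha₀⟩ := exists_aniso (C := C) hO.h1 le_rfl
    have := hc a₀
    rw [e, zero_smul, LinearEquiv.map_eq_zero_iff] at this
    exact ha₀ (by rw [this, map_zero])
  obtain ⟨d, hd⟩ := Finite.injective_iff_surjective.1 (frobenius_inj F p) cst
  rw [frobenius_def] at hd
  have hd0 : d ≠ 0 := fun e => hc0 (by rw [← hd, e, zero_pow (Fact.out : p.Prime).ne_zero])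
  set σ' : Module.End F (Fin 3 → F) := d⁻¹ • σ.toLinearMap with hσ'
  set τ' : Module.End F (Fin 4 → F) := d • τ.toLinearMap with hτ'
  have hzt : ∀ a y, z (C.t a y) = C.t (σ' a) (τ' y) := fun a y => by
    rw [hst]; simp [hσ', hτ', smul_smul, hd0]
  have hpow : ∀ (n : ℕ) a, (σ' ^ n) a = (d⁻¹) ^ n • (σ ^ n) a := fun n => by
    induction n with
    | zero => intro a; simp
    | succ n ih =>
      intro a
      rw [pow_succ, Module.End.mul_apply, ih, pow_succ σ, LinearEquiv.mul_apply]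
      simp [hσ', smul_smul, pow_succ]
  have hσp : σ' ^ p = 1 := LinearMap.ext fun a => by
    rw [hpow, hc, smul_smul, inv_pow, hd, inv_mul_cancel₀ hc0, one_smul]; rfl
  obtain ⟨a₀, ha₀⟩ := exists_aniso (C := C) hO.h1 le_rfl
  have he : ∀ a a', C.f (σ' a) (σ' a') * C.g (τ' w₁) (τ' w₁) = C.f a a' * C.g w₁ w₁ := fun a a' => by
    rw [← C.pol, ← hzt, ← hzt, hzI, C.pol]
  have hθ : C.g (τ' w₁) (τ' w₁) ≠ 0 := fun e => by
    have := he a₀ a₀
    rw [e, mul_zero] at this
    exact mul_ne_zero ha₀ Fr.q₁ this.symm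
  set μ := C.g w₁ w₁ / C.g (τ' w₁) (τ' w₁) with hμ
  have hμf : ∀ a a', C.f (σ' a) (σ' a') = μ * C.f a a' := fun a a' => by
    rw [hμ]; field_simp; linear_combination he a a'
  have hμ1 : μ = 1 := by
    have hn : ∀ n : ℕ, C.f ((σ' ^ n) a₀) ((σ' ^ n) a₀) = μ ^ n * C.f a₀ a₀ := fun n => by
      induction n with
      | zero => simp
      | succ n ih => rw [pow_succ', Module.End.mul_apply, hμf, ih, pow_succ']; ring
    have h := hn p
    rw [hσp, Module.End.one_apply, right_eq_mul₀ ha₀] at h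
    exact frobenius_inj F p (by rw [frobenius_def, frobenius_def, h, one_pow])
  set S : Module.End F (Fin 3 → F) := σ' - 1 with hS
  set T : Module.End F (Fin 4 → F) := τ' - 1 with hT
  haveI : CharP (Module.End F (Fin 3 → F)) p :=
    charP_of_injective_algebraMap (algebraMap F (Module.End F (Fin 3 → F))).injective p
  have hSp : S ^ p = 0 := by
    rw [hS, sub_pow_char_of_commute p (Commute.one_right _), one_pow, hσp, sub_self]
  have hS3 : ∀ a, S (S (S a)) = 0 := fun a => by
    have := Module.End.ker_pow_le_ker_pow_finrank S p (show a ∈ LinearMap.ker (S ^ p) by rw [hSp]; simp)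
    rw [Module.finrank_fin_fun, LinearMap.mem_ker] at this
    simpa [pow_succ, Module.End.mul_apply] using this
  have hσS : ∀ a, σ' a = a + S a := fun a => by simp [hS]
  have hτT : ∀ y, τ' y = y + T y := fun y => by simp [hT]
  have hg2 : ∀ x, g (z (z x) - (2 : F) • z x + x) = C.t ((-C.g v v) • C.prB b (g x)) b := fun x => by
    rw [map_add, map_sub, map_smul, hgz, hgz, yv_sq h2]
  have hzz : ∀ a y, z (z (C.t a y)) - (2 : F) • z (C.t a y) + C.t a y =
      C.t a (T (T y)) + C.t (S a) ((2 : F) • T y + (2 : F) • T (T y)) +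
        C.t (S (S a)) (y + (2 : F) • T y + T (T y)) := fun a y => by
    simp only [hzt, hσS, hτT, map_add, map_smul, LinearMap.add_apply, smul_add]
    module
  -- `σ' = 1`
  have hS2 : ∀ a, S (S a) = 0 := fun a => by
    by_contra ha
    let Φ : (Fin 4 → F) →ₗ[F] (Fin 3 → F) := (C.prB b).comp (g.toLinearMap.comp (C.t a))
    obtain ⟨y, hy, hy0⟩ := Submodule.exists_mem_ne_zero_of_ne_bot
      (LinearMap.ker_ne_bot_of_finrank_lt (f := Φ) (by simp))
    have hy' : C.prB b (g (C.t a y)) = 0 := hy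
    have e : C.t a (T (T y)) + C.t (S a) ((2 : F) • T y + (2 : F) • T (T y)) +
        C.t (S (S a)) (y + (2 : F) • T y + T (T y)) = 0 := by
      rw [← hzz]
      refine g.map_eq_zero_iff.1 ?_
      rw [hg2, hy', smul_zero, map_zero, LinearMap.zero_apply]
    have e2 : C.t (S (S a)) (T (T y)) = 0 := by
      have := congrArg (C.tm (S ∘ₗ S) LinearMap.id) e
      simpa [map_add, C.tm_t, hS3] using this
    have hT2 : T (T y) = 0 := C.t_inj_left ha (b' := 0) (by rw [e2, map_zero])
    have e1 : C.t (S (S a)) ((2 : F) • T y) = 0 := by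
      have := congrArg (C.tm S LinearMap.id) e
      rw [map_add, map_add, C.tm_t, C.tm_t, C.tm_t, hS3, hT2, map_zero] at this
      simpa using this
    have hT1 : T y = 0 := by
      have := C.t_inj_left ha (b' := 0) (by rw [e1, map_zero])
      exact (smul_eq_zero.1 this).resolve_left C.two
    rw [hT2, hT1] at e
    exact hy0 (C.t_inj_left ha (b' := 0) (by simpa using e))
  have hS0 : S = 0 := eq_zero_of_sq hO.h1 hS2 fun a a' => by rw [← hσS, ← hσS, hμf, hμ1, one_mul]
  -- the ruling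
  have hgt : ∀ a y, g (C.t a (T (T y))) = C.t ((-C.g v v) • C.prB b (g (C.t a y))) b := fun a y => by
    rw [← hg2, hzz, hS0]; simp
  obtain ⟨y, hy⟩ : ∃ y, T (T y) ≠ 0 := by
    by_contra! hall
    have hz0 : (C.prB b).comp g.toLinearMap = 0 := C.ext_pure fun a y => by
      have e := hgt a y
      rw [hall, map_zero, map_zero] at e
      have e' := C.t_inj Fr.b_ne (a := (-C.g v v) • C.prB b (g (C.t a y))) (a' := 0)
        (by rw [← e, map_zero, LinearMap.zero_apply])
      show C.prB b (g (C.t a y)) = 0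
      exact (smul_eq_zero.1 e').resolve_left (neg_ne_zero.2 hvv)
    have := LinearMap.congr_fun hz0 (g.symm (C.t a₀ c))
    rw [LinearMap.comp_apply, LinearEquiv.coe_coe, LinearEquiv.apply_symm_apply, C.prB_t, Fr.cb,
      one_smul] at this
    exact ha₀ (by rw [this]; simp)
  set b' := T (T y)
  refine isTen_of_line hO hg hy ?_ Fr.b_ne Fr.bb fun a => ⟨_, hgt a y⟩
  have e := hO.isoM hg (C.t a₀ b') (C.t a₀ b')
  rw [show g (C.t a₀ b') = _ from hgt a₀ y, C.pol, C.pol, Fr.bb, mul_zero] at e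
  exact (mul_eq_zero.1 e.symm).resolve_left ha₀

end Cfsg.Agent.TenForm.ThreeFour
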